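import Cfsg.Agent.Lib.Trans3.Spider.Collapse

/-! Generated coset enumeration certificate A2. -/

set_option autoImplicit false
set_option maxRecDepth 100000

namespace CfsgLib.Trans3.Spider.A2

open CfsgLib.InvChar.Coset

/-- facts -/
noncomputable def facts : Tr := (.leaf 0x32000030000310000300002200002000010000010000010000000000000000000030000020000210000100001200000)
/-- justifications -/
noncomputable def just : Tr := (.leaf 0x200006000020040400400800008000040001400004000080100001004000010000000004000000000100408004010000000000c000000201001002800040000020000000000)
/-- relators -/
def rels : List (List ℕ) := [[0, 1, 0, 1, 0, 1], [0, 2, 0, 2], [1, 2, 1, 2, 1, 2], [0, 0], [1, 1], [2, 2]]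
/-- subgroup words -/
def subs : List (List ℕ) := [[0], [1]]
/-- the local letters -/
def emb : List ℕ := [3, 2, 1]
/-- certificate -/
noncomputable def cert : Cert := ⟨3, 9, 3, facts, just, rels, subs⟩
/-- table -/
noncomputable def permTable : Tr := (.leaf 0x30000300002000020000100003000000000200001000010000000000)
/-- node of a coset -/
noncomputable def live : Tr := (.leaf 0x3000020000100000)
/-- fact of an entry -/
noncomputable def fin : Tr := (.leaf 0x80000700002000060000100002000000000100005000000000400003)
/-- table -/
noncomputable def table : Table := ⟨4, 3, permTable⟩

end CfsgLib.Trans3.Spider.A2
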